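import Mathlib.GroupTheory.Subgroup.Centralizer
import Mathlib.GroupTheory.Index
import Mathlib.NumberTheory.Divisors

/-!
Groups all of whose conjugacy class sizes have at most two prime divisors (S4147).
-/

set_option autoImplicit false

namespace H79.TwoPrime

/-- Every class size has at most two prime divisors. -/
def HS (G : Type*) [Group G] : Prop :=
  ∀ x : G, ((Subgroup.centralizer ({x} : Set G)).index).primeFactors.card ≤ 2

/-- No non-trivial `p`-element commutes with a non-trivial `r`-element. -/
def Apart (G : Type*) [Group G] (p r : ℕ) : Prop :=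
  ∀ x y : G, Commute x y → (∃ i : ℕ, x ^ p ^ i = 1) → (∃ j : ℕ, y ^ r ^ j = 1) → x = 1 ∨ y = 1

end H79.TwoPrime
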